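import Mathlib.GroupTheory.PresentedGroup
import Mathlib.GroupTheory.Perm.Sign
import Mathlib.GroupTheory.Coset.Card
import Mathlib.Data.Fintype.Perm
import Mathlib.Data.Set.Card
import Mathlib.Data.Set.Finite.Range
import Mathlib.Data.Finite.Perm
import Mathlib.GroupTheory.Perm.Basic

/-!
# The Coxeter (Moore) presentation of the symmetric group

`IsSymGens k t` says that `t 0, …, t (k-1)` satisfy the relations of the adjacent transpositions
of `Perm (Fin (k+1))`. The main results are `exists_hom` (then there is a homomorphism from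
`Perm (Fin (k+1))` sending `swap i (i+1)` to `t i`), `card_closure_le` and `presentedEquiv`.
-/

set_option autoImplicit false

namespace CfsgLib.CoxeterSym

/-- The relations of the adjacent transpositions of a symmetric group. -/
structure IsSymGens {W : Type*} [Group W] (k : ℕ) (t : ℕ → W) : Prop where
  sq : ∀ i, i < k → t i * t i = 1
  braid : ∀ i, i + 1 < k → t i * t (i + 1) * t i = t (i + 1) * t i * t (i + 1)
  comm : ∀ i j, i + 1 < j → j < k → t i * t j = t j * t i

variable {W : Type*} [Group W]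

/-- The coset representatives `t (m-1) * ⋯ * t 0`. -/
def cosetRep (t : ℕ → W) : ℕ → W
  | 0 => 1
  | m + 1 => t m * cosetRep t m

lemma IsSymGens.shift {k : ℕ} {t : ℕ → W} (h : IsSymGens (k + 1) t) :
    IsSymGens k (fun i => t (i + 1)) where
  sq i hi := h.sq (i + 1) (by omega)
  braid i hi := h.braid (i + 1) (by omega)
  comm i j hij hj := h.comm (i + 1) (j + 1) (by omega) (by omega)

lemma cosetRep_comm {k : ℕ} {t : ℕ → W} (h : IsSymGens k t) :
    ∀ (m i : ℕ), m < i → i < k → t i * cosetRep t m = cosetRep t m * t i := by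
  intro m
  induction m with
  | zero => intro i _ _; simp [cosetRep]
  | succ m ih =>
    intro i hi hik
    change t i * (t m * cosetRep t m) = t m * cosetRep t m * t i
    rw [← mul_assoc, ← h.comm m i hi hik, mul_assoc, ih i (by omega) hik, mul_assoc]

lemma cosetRep_low {k : ℕ} {t : ℕ → W} (h : IsSymGens k t) :
    ∀ (m i : ℕ), i + 2 ≤ m → m ≤ k → t i * cosetRep t m = cosetRep t m * t (i + 1) := by
  intro m
  induction m with
  | zero => intro i hi _; omega
  | succ m ih =>
    intro i hi hmk
    rcases Nat.lt_or_ge (i + 1) m with h1 | h1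
    · change t i * (t m * cosetRep t m) = t m * cosetRep t m * t (i + 1)
      rw [← mul_assoc, h.comm i m h1 (by omega), mul_assoc, ih i (by omega) (by omega), mul_assoc]
    · obtain rfl : m = i + 1 := by omega
      change t i * (t (i + 1) * (t i * cosetRep t i)) = t (i + 1) * (t i * cosetRep t i) * t (i + 1)
      calc t i * (t (i + 1) * (t i * cosetRep t i))
          = t i * t (i + 1) * t i * cosetRep t i := by simp only [mul_assoc]
        _ = t (i + 1) * t i * (t (i + 1) * cosetRep t i) := by
            rw [h.braid i (by omega)]; simp only [mul_assoc]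
        _ = t (i + 1) * (t i * cosetRep t i) * t (i + 1) := by
            rw [cosetRep_comm h i (i + 1) (by omega) (by omega)]; simp only [mul_assoc]

/-- The subgroup generated by the first `k` elements of the sequence. -/
def genSubgroup (k : ℕ) (t : ℕ → W) : Subgroup W := Subgroup.closure {x | ∃ i, i < k ∧ x = t i}

lemma mem_genSubgroup {k : ℕ} (t : ℕ → W) {i : ℕ} (hi : i < k) : t i ∈ genSubgroup k t :=
  Subgroup.subset_closure ⟨i, hi, rfl⟩

lemma genSubgroup_finite_card :
    ∀ (k : ℕ) (t : ℕ → W), IsSymGens k t →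
      Finite (genSubgroup k t) ∧ Nat.card (genSubgroup k t) ≤ (k + 1).factorial := by
  intro k
  induction k with
  | zero =>
    intro t _
    have : genSubgroup 0 t = ⊥ := by
      rw [genSubgroup, Subgroup.closure_eq_bot_iff]
      rintro x ⟨i, hi, -⟩
      omega
    rw [this]
    exact ⟨inferInstance, by simp⟩
  | succ k ih =>
    intro t h
    obtain ⟨hfin, hcard⟩ := ih _ h.shift
    set H := genSubgroup k (fun i => t (i + 1)) with hH
    let U : Set W := {x | ∃ m, m ≤ k + 1 ∧ ∃ y ∈ H, x = cosetRep t m * y}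
    have hgen : ∀ i, i < k + 1 → ∀ x ∈ U, t i * x ∈ U := by
      rintro i hi x ⟨m, hm, y, hy, rfl⟩
      rcases (show i = m ∨ i + 1 = m ∨ m < i ∨ i + 2 ≤ m by omega) with rfl | rfl | h1 | h1
      · exact ⟨i + 1, by omega, y, hy, (mul_assoc _ _ _).symm⟩
      · refine ⟨i, by omega, y, hy, ?_⟩
        change t i * (t i * cosetRep t i * y) = _
        rw [← mul_assoc, ← mul_assoc, h.sq i (by omega), one_mul]
      · refine ⟨m, hm, t i * y, H.mul_mem ?_ hy, ?_⟩
        · obtain ⟨j, rfl⟩ : ∃ j, i = j + 1 := ⟨i - 1, by omega⟩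
          exact mem_genSubgroup (fun i => t (i + 1)) (by omega : j < k)
        · rw [← mul_assoc, cosetRep_comm h m i h1 hi, mul_assoc]
      · refine ⟨m, hm, t (i + 1) * y,
          H.mul_mem (mem_genSubgroup (fun i => t (i + 1)) (by omega : i < k)) hy, ?_⟩
        rw [← mul_assoc, cosetRep_low h m i h1 hm, mul_assoc]
    have hinv : ∀ i, i < k + 1 → (t i)⁻¹ = t i := fun i hi => inv_eq_of_mul_eq_one_right (h.sq i hi)
    have hsub : (genSubgroup (k + 1) t : Set W) ⊆ U := by
      intro g hg
      suffices hU : ∀ x ∈ U, g * x ∈ U by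
        simpa using hU 1 ⟨0, by omega, 1, H.one_mem, (one_mul 1).symm⟩
      have hg' : g ∈ genSubgroup (k + 1) t := hg
      clear hg
      suffices hboth : (∀ x ∈ U, g * x ∈ U) ∧ (∀ x ∈ U, g⁻¹ * x ∈ U) from hboth.1
      induction hg' using Subgroup.closure_induction with
      | mem x hx =>
        obtain ⟨i, hi, rfl⟩ := hx
        rw [hinv i hi]
        exact ⟨hgen i hi, hgen i hi⟩
      | one => simp
      | mul x y _ _ hx hy =>
        exact ⟨fun z hz => mul_assoc x y z ▸ hx.1 _ (hy.1 z hz),
          fun z hz => by rw [mul_inv_rev, mul_assoc]; exact hy.2 _ (hx.2 z hz)⟩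
      | inv x _ hx => exact ⟨hx.2, by rw [inv_inv]; exact hx.1⟩
    let f : Fin (k + 2) × H → W := fun p => cosetRep t p.1 * p.2
    have hU : (genSubgroup (k + 1) t : Set W) ⊆ Set.range f := by
      intro g hg
      obtain ⟨m, hm, y, hy, rfl⟩ := hsub hg
      exact ⟨(⟨m, by omega⟩, ⟨y, hy⟩), rfl⟩
    have hfinite : (genSubgroup (k + 1) t : Set W).Finite := (Set.finite_range f).subset hU
    refine ⟨hfinite.to_subtype, ?_⟩
    calc Nat.card (genSubgroup (k + 1) t)
        = (genSubgroup (k + 1) t : Set W).ncard := Nat.card_coe_set_eq _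
      _ ≤ (Set.range f).ncard := Set.ncard_le_ncard hU (Set.finite_range f)
      _ ≤ Nat.card (Fin (k + 2) × H) := by
          rw [← Set.image_univ, ← Set.ncard_univ]
          exact Set.ncard_image_le Set.finite_univ
      _ ≤ (k + 1 + 1).factorial := by
          rw [Nat.card_prod, Nat.card_fin, Nat.factorial_succ (k + 1)]
          exact Nat.mul_le_mul_left _ hcard

/-- A group generated by elements satisfying the relations of the adjacent transpositions of
`Perm (Fin (k+1))` is finite of order at most `(k+1)!`. -/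
theorem finite_card_le_of_generated {k : ℕ} {t : ℕ → W} (h : IsSymGens k t)
    (hgen : genSubgroup k t = ⊤) : Finite W ∧ Nat.card W ≤ (k + 1).factorial := by
  obtain ⟨hf, hc⟩ := genSubgroup_finite_card k t h
  rw [hgen] at hf hc
  haveI := hf
  exact ⟨Finite.of_equiv _ Subgroup.topEquiv.toEquiv,
    by rw [← Nat.card_congr Subgroup.topEquiv.toEquiv]; exact hc⟩

/-- The Coxeter relations of `Perm (Fin (k+1))`. -/
def symRels (k : ℕ) : Set (FreeGroup (Fin k)) :=
  {g | ∃ i : Fin k, g = FreeGroup.of i ^ 2} ∪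
    {g | ∃ i j : Fin k, j.val = i.val + 1 ∧ g = (FreeGroup.of i * FreeGroup.of j) ^ 3} ∪
    {g | ∃ i j : Fin k, i.val + 1 < j.val ∧ g = (FreeGroup.of i * FreeGroup.of j) ^ 2}

lemma braid_iff {a b : W} (ha : a * a = 1) (hb : b * b = 1) :
    a * b * a = b * a * b ↔ (a * b) ^ 3 = 1 := by
  have ha' : a⁻¹ = a := inv_eq_of_mul_eq_one_right ha
  have hb' : b⁻¹ = b := inv_eq_of_mul_eq_one_right hb
  have hi : (b * a * b)⁻¹ = b * a * b := by rw [mul_inv_rev, mul_inv_rev, ha', hb', mul_assoc]
  rw [← mul_inv_eq_one, hi]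
  simp only [pow_succ, pow_zero, one_mul, mul_assoc]

lemma comm_iff {a b : W} (ha : a * a = 1) (hb : b * b = 1) :
    a * b = b * a ↔ (a * b) ^ 2 = 1 := by
  have ha' : a⁻¹ = a := inv_eq_of_mul_eq_one_right ha
  have hb' : b⁻¹ = b := inv_eq_of_mul_eq_one_right hb
  rw [← mul_inv_eq_one, mul_inv_rev, ha', hb', pow_two]

/-- The generators of the presented group, extended by `1` to all natural numbers. -/
def presGen (k : ℕ) (i : ℕ) : PresentedGroup (symRels k) :=
  if h : i < k then PresentedGroup.of ⟨i, h⟩ else 1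

lemma presGen_eq {k : ℕ} (i : Fin k) : presGen k i = PresentedGroup.of i := by
  simp [presGen, i.isLt]

lemma presGen_isSymGens (k : ℕ) : IsSymGens k (presGen k) := by
  have hsq : ∀ i : Fin k, presGen k i * presGen k i = 1 := by
    intro i
    rw [presGen_eq, ← pow_two]
    exact PresentedGroup.one_of_mem (x := FreeGroup.of i ^ 2) (Or.inl (Or.inl ⟨i, rfl⟩))
  refine ⟨fun i hi => hsq ⟨i, hi⟩, fun i hi => ?_, fun i j hij hj => ?_⟩
  · rw [braid_iff (hsq ⟨i, by omega⟩) (hsq ⟨i + 1, hi⟩)]
    change (presGen k (⟨i, by omega⟩ : Fin k).val * presGen k (⟨i + 1, hi⟩ : Fin k).val) ^ 3 = 1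
    rw [presGen_eq, presGen_eq]
    exact PresentedGroup.one_of_mem (rels := symRels k)
      (x := (FreeGroup.of (⟨i, by omega⟩ : Fin k) * FreeGroup.of ⟨i + 1, hi⟩) ^ 3)
      (Set.mem_union_left _ (Set.mem_union_right _ ⟨_, _, rfl, rfl⟩))
  · rw [comm_iff (hsq ⟨i, by omega⟩) (hsq ⟨j, hj⟩)]
    change (presGen k (⟨i, by omega⟩ : Fin k).val * presGen k (⟨j, hj⟩ : Fin k).val) ^ 2 = 1
    rw [presGen_eq, presGen_eq]
    exact PresentedGroup.one_of_mem (rels := symRels k)
      (x := (FreeGroup.of (⟨i, by omega⟩ : Fin k) * FreeGroup.of ⟨j, hj⟩) ^ 2)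
      (Set.mem_union_right _ ⟨_, _, hij, rfl⟩)

lemma presGen_generates (k : ℕ) : genSubgroup k (presGen k) = ⊤ := by
  refine (Subgroup.eq_top_iff' _).mpr (PresentedGroup.generated_by _ _ fun j => ?_)
  rw [← presGen_eq]
  exact mem_genSubgroup _ j.isLt

/-- The adjacent transposition as a function of a natural number. -/
def adjSwap (k : ℕ) (i : Fin k) : Equiv.Perm (Fin (k + 1)) := Equiv.swap i.castSucc i.succ

lemma adjSwap_rels (k : ℕ) : ∀ r ∈ symRels k, FreeGroup.lift (adjSwap k) r = 1 := by
  rintro r ((⟨i, rfl⟩ | ⟨i, j, hij, rfl⟩) | ⟨i, j, hij, rfl⟩)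
  · simp [adjSwap, pow_two]
  · have e : i.succ = j.castSucc := Fin.ext (by simp [hij])
    rw [map_pow, map_mul, FreeGroup.lift_apply_of, FreeGroup.lift_apply_of]
    unfold adjSwap
    rw [← braid_iff (Equiv.swap_mul_self _ _) (Equiv.swap_mul_self _ _), e]
    have h1 : i.castSucc ≠ j.castSucc := fun h => by
      have := congrArg Fin.val h; simp at this; omega
    have h2 : i.castSucc ≠ j.succ := fun h => by
      have := congrArg Fin.val h; simp at this; omega
    have h3 : j.castSucc ≠ j.succ := fun h => by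
      have := congrArg Fin.val h; simp at this
    rw [Equiv.swap_comm i.castSucc j.castSucc, Equiv.swap_comm j.castSucc j.succ,
      Equiv.swap_mul_swap_mul_swap h3.symm h2.symm, Equiv.swap_comm j.succ j.castSucc,
      Equiv.swap_comm j.castSucc i.castSucc, Equiv.swap_mul_swap_mul_swap h1 h2, Equiv.swap_comm]
  · rw [map_pow, map_mul, FreeGroup.lift_apply_of, FreeGroup.lift_apply_of]
    unfold adjSwap
    rw [← comm_iff (Equiv.swap_mul_self _ _) (Equiv.swap_mul_self _ _)]
    have hd : (Equiv.swap i.castSucc i.succ).Disjoint (Equiv.swap j.castSucc j.succ) := by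
      intro x
      by_cases hx : x = i.castSucc ∨ x = i.succ
      · right
        apply Equiv.swap_apply_of_ne_of_ne <;>
          · rintro rfl
            rcases hx with hx | hx <;> · have := congrArg Fin.val hx; simp at this; omega
      · left
        push Not at hx
        exact Equiv.swap_apply_of_ne_of_ne hx.1 hx.2
    exact hd.commute.eq

/-- The presentation of the symmetric group. -/
noncomputable def presentedEquiv (k : ℕ) :
    PresentedGroup (symRels k) ≃* Equiv.Perm (Fin (k + 1)) :=
  MulEquiv.ofBijective (PresentedGroup.toGroup (adjSwap_rels k)) (by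
    set φ := PresentedGroup.toGroup (adjSwap_rels k)
    have hsurj : Function.Surjective φ := by
      rw [← MonoidHom.range_eq_top, eq_top_iff]
      intro g _
      have hg : g ∈ Submonoid.closure
          (Set.range fun i : Fin k => Equiv.swap i.castSucc i.succ) := by
        rw [Equiv.Perm.mclosure_swap_castSucc_succ]; trivial
      refine Submonoid.closure_le (S := φ.range.toSubmonoid).mpr ?_ hg
      rintro _ ⟨i, rfl⟩
      exact ⟨PresentedGroup.of i, PresentedGroup.toGroup.of _⟩
    obtain ⟨hfin, hcard⟩ := finite_card_le_of_generated (presGen_isSymGens k) (presGen_generates k)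
    haveI := hfin
    refine (Nat.bijective_iff_surjective_and_card φ).mpr ⟨hsurj, le_antisymm ?_ ?_⟩
    · rwa [Nat.card_perm, Nat.card_fin]
    · exact Nat.card_le_card_of_surjective φ hsurj)

@[simp]
lemma presentedEquiv_of (k : ℕ) (i : Fin k) :
    presentedEquiv k (PresentedGroup.of i) = Equiv.swap i.castSucc i.succ :=
  PresentedGroup.toGroup.of (adjSwap_rels k)

/-- The universal property of the symmetric group. -/
theorem exists_hom {k : ℕ} {t : ℕ → W} (h : IsSymGens k t) :
    ∃ φ : Equiv.Perm (Fin (k + 1)) →* W, ∀ i : Fin k, φ (Equiv.swap i.castSucc i.succ) = t i := by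
  have hrel : ∀ r ∈ symRels k, FreeGroup.lift (fun i : Fin k => t i) r = 1 := by
    rintro r ((⟨i, rfl⟩ | ⟨i, j, hij, rfl⟩) | ⟨i, j, hij, rfl⟩)
    · rw [map_pow, FreeGroup.lift_apply_of, pow_two, h.sq i i.isLt]
    · rw [map_pow, map_mul, FreeGroup.lift_apply_of, FreeGroup.lift_apply_of, hij,
        ← braid_iff (h.sq i i.isLt) (h.sq _ (hij ▸ j.isLt))]
      exact h.braid i (hij ▸ j.isLt)
    · rw [map_pow, map_mul, FreeGroup.lift_apply_of, FreeGroup.lift_apply_of,
        ← comm_iff (h.sq i i.isLt) (h.sq j j.isLt)]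
      exact h.comm i j hij j.isLt
  refine ⟨(PresentedGroup.toGroup hrel).comp (presentedEquiv k).symm.toMonoidHom, fun i => ?_⟩
  rw [← presentedEquiv_of k i, MonoidHom.comp_apply, MulEquiv.coe_toMonoidHom,
    MulEquiv.symm_apply_apply, PresentedGroup.toGroup.of]

/-- A generated group with the relations, of order at least `(k+1)!`, is the symmetric group. -/
theorem nonempty_equiv_of_card_ge {k : ℕ} {t : ℕ → W} (h : IsSymGens k t)
    (hgen : genSubgroup k t = ⊤) (hcard : (k + 1).factorial ≤ Nat.card W) :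
    Nonempty (Equiv.Perm (Fin (k + 1)) ≃* W) := by
  obtain ⟨hfin, -⟩ := finite_card_le_of_generated h hgen
  haveI := hfin
  obtain ⟨φ, hφ⟩ := exists_hom h
  have hsurj : Function.Surjective φ := by
    rw [← MonoidHom.range_eq_top, eq_top_iff, ← hgen, genSubgroup, Subgroup.closure_le]
    rintro _ ⟨i, hi, rfl⟩
    exact ⟨_, hφ ⟨i, hi⟩⟩
  refine ⟨MulEquiv.ofBijective φ ((Nat.bijective_iff_surjective_and_card φ).mpr ⟨hsurj, le_antisymm ?_ ?_⟩)⟩
  · rwa [Nat.card_perm, Nat.card_fin]
  · exact Nat.card_le_card_of_surjective φ hsurj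

end CfsgLib.CoxeterSym
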